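import Mathlib.RingTheory.Kaehler.JacobiZariski
import Mathlib.RingTheory.Etale.Kaehler
import Mathlib.RingTheory.Localization.BaseChange
import Mathlib.Algebra.Module.LocalizedModule.Away

/-!
# `H^{-1}` of the naive cotangent complex: change of base along formally étale maps, localization, gluing
-/

set_option autoImplicit false

universe u

open TensorProduct Algebra

namespace Groth.Agent.H8Props.NLH1

section Base

variable (R R' T : Type u) [CommRing R] [CommRing R'] [CommRing T] [Algebra R R'] [Algebra R' T]
  [Algebra R T] [IsScalarTower R R' T] [Algebra.FormallyEtale R R']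

omit [Algebra R' T] [Algebra R T] [IsScalarTower R R' T] in
theorem cotangentComplex_bijective {ι : Type u} (P : Algebra.Generators R R' ι) :
    Function.Bijective P.toExtension.cotangentComplex := by
  constructor
  · rw [injective_iff_map_eq_zero]
    intro x hx
    have : Subsingleton P.toExtension.H1Cotangent := P.equivH1Cotangent.toEquiv.subsingleton
    exact congrArg Subtype.val (@Subsingleton.elim _ this ⟨x, hx⟩ 0)
  · intro y
    exact (P.toExtension.exact_cotangentComplex_toKaehler y).1 (Subsingleton.elim _ _)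

theorem map_ofComp_injective {ι κ : Type u} (Q : Algebra.Generators R' T κ)
    (P : Algebra.Generators R R' ι) :
    Function.Injective (Extension.H1Cotangent.map (Q.ofComp P).toExtensionHom) := by
  rw [injective_iff_map_eq_zero]
  rintro ⟨x, x_in⟩ hx
  have hx' : Extension.Cotangent.map (Q.ofComp P).toExtensionHom x = 0 := congrArg Subtype.val hx
  obtain ⟨y, rfl⟩ := (Generators.Cotangent.exact Q P x).1 hx'
  have hd : (P.toExtension.cotangentComplex.baseChange T) y = 0 := by
    apply Generators.CotangentSpace.map_toComp_injective Q P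
    rw [map_zero]
    have h0 := LinearMap.congr_fun (Generators.H1Cotangent.map_comp_cotangentComplex_baseChange Q P) y
    rw [LinearMap.comp_apply, LinearMap.comp_apply] at h0
    exact h0.trans x_in
  have hbij : Function.Injective (P.toExtension.cotangentComplex.baseChange T) :=
    (LinearEquiv.baseChange R' T _ _
      (LinearEquiv.ofBijective P.toExtension.cotangentComplex (cotangentComplex_bijective R R' P))).injective
  obtain rfl : y = 0 := hbij (hd.trans (map_zero _).symm)
  exact Subtype.ext (map_zero _)

/-- Along a formally étale change of base `H^{-1}` does not change. -/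
theorem map_base_bijective : Function.Bijective (H1Cotangent.map R R' T T) := by
  constructor
  · let Q := Generators.self R' T
    let P := Generators.self R R'
    let C := Q.comp P
    let e := (Generators.self R T).defaultHom C
    let e' := C.defaultHom (Generators.self R T)
    have hcomp : H1Cotangent.map R R' T T =
        Extension.H1Cotangent.map (Q.ofComp P).toExtensionHom ∘ₗ
          Extension.H1Cotangent.map e.toExtensionHom := by
      show Extension.H1Cotangent.map _ = _
      rw [Extension.H1Cotangent.map_eq _ ((Q.ofComp P).toExtensionHom.comp e.toExtensionHom),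
        Extension.H1Cotangent.map_comp]
      rfl
    rw [hcomp, LinearMap.coe_comp]
    exact (map_ofComp_injective R R' T Q P).comp
      (Extension.H1Cotangent.equiv e.toExtensionHom e'.toExtensionHom).injective
  · intro x
    exact (H1Cotangent.exact_map_δ R R' T x).1 (Subsingleton.elim _ _)

end Base

section Away

variable {R R' S T : Type u} [CommRing R] [CommRing R'] [CommRing S] [CommRing T] [Algebra R R']
  [Algebra R S] [Algebra R T] [Algebra R' T] [Algebra S T] [IsScalarTower R S T] [IsScalarTower R R' T]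
  [Algebra.FormallyEtale R R']

omit [Algebra.FormallyEtale R R'] in
theorem map_eq_comp (x : H1Cotangent R S) :
    H1Cotangent.map R R' S T x = H1Cotangent.map R R' T T (H1Cotangent.map R R S T x) := by
  show Extension.H1Cotangent.map _ x = Extension.H1Cotangent.map _ (Extension.H1Cotangent.map _ x)
  rw [← Extension.H1Cotangent.map_comp_apply, Extension.H1Cotangent.map_eq]

theorem localizedModule (M : Submonoid S) [IsLocalization M T] :
    IsLocalizedModule M (H1Cotangent.map R R S T) := by
  refine (isLocalizedModule_iff_isBaseChange M T _).mpr ?_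
  have h := (tensorH1CotangentOfIsLocalization R T M).bijective
  rw [← LinearEquiv.coe_coe, tensorH1CotangentOfIsLocalization_toLinearMap] at h
  exact h

variable (g : S) [IsLocalization.Away g T]

theorem exists_pow_smul_eq_map (y : H1Cotangent R' T) :
    ∃ (n : ℕ) (x : H1Cotangent R S), H1Cotangent.map R R' S T x = algebraMap S T (g ^ n) • y := by
  obtain ⟨y', rfl⟩ := (map_base_bijective R R' T).2 y
  have := localizedModule (R := R) (T := T) (Submonoid.powers g)
  obtain ⟨⟨x, ⟨_, n, rfl⟩⟩, hx⟩ :=
    IsLocalizedModule.surj (Submonoid.powers g) (H1Cotangent.map R R S T) y'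
  refine ⟨n, x, ?_⟩
  rw [map_eq_comp, ← hx, Submonoid.smul_def, ← map_smul, algebraMap_smul]

theorem exists_pow_smul_eq_zero (x : H1Cotangent R S) (hx : H1Cotangent.map R R' S T x = 0) :
    ∃ n : ℕ, g ^ n • x = 0 := by
  rw [map_eq_comp] at hx
  have h0 := (map_base_bijective R R' T).1 (hx.trans (map_zero _).symm)
  have := localizedModule (R := R) (T := T) (Submonoid.powers g)
  obtain ⟨⟨_, n, rfl⟩, hn⟩ := (IsLocalizedModule.eq_iff_exists (Submonoid.powers g)
    (H1Cotangent.map R R S T) (x₁ := x) (x₂ := 0)).1 (h0.trans (map_zero _).symm)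
  exact ⟨n, by simpa [Submonoid.smul_def] using hn⟩

end Away

section Glue

variable {R M : Type*} [CommRing R] [AddCommGroup M] [Module R M] {ι : Type*} [Fintype ι] (g : ι → R)
  (hg : Ideal.span (Set.range g) = ⊤)

omit [Fintype ι] in
include hg in
theorem span_pow (n : ℕ) : Ideal.span (Set.range fun i => g i ^ n) = ⊤ := by
  have h := Ideal.span_pow_eq_top (Set.range g) hg n
  rwa [← Set.range_comp] at h

include hg in
theorem eq_zero_of_span (x : M) (h : ∀ i, ∃ n : ℕ, g i ^ n • x = 0) : x = 0 := by
  choose n hn using h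
  obtain ⟨a, ha⟩ := Ideal.mem_span_range_iff_exists_fun.mp
    ((Ideal.eq_top_iff_one _).1 (span_pow g hg (Finset.univ.sup n)))
  rw [← one_smul R x, ← ha, Finset.sum_smul]
  refine Finset.sum_eq_zero fun i _ => ?_
  obtain ⟨d, hd⟩ := Nat.exists_eq_add_of_le (Finset.le_sup (f := n) (Finset.mem_univ i))
  rw [mul_smul, hd, pow_add, mul_comm, mul_smul, hn, smul_zero, smul_zero]

variable {N : ι → Type*} [∀ i, AddCommGroup (N i)] (f : ∀ i, M →+ N i) (s : ∀ i, R → N i → N i)
  {N₂ : ι → ι → Type*} [∀ i j, AddCommGroup (N₂ i j)] (ρ : ∀ i j, N i →+ N₂ i j) (ρ' : ∀ i j, N j →+ N₂ i j)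
  (s₂ : ∀ i j, R → N₂ i j → N₂ i j)

include hg in
/-- Gluing elements of the localizations at elements generating the unit ideal. -/
theorem exists_glue (hs : ∀ i r m, f i (r • m) = s i r (f i m))
    (hss : ∀ i r r' y, s i (r * r') y = s i r (s i r' y))
    (hinj : ∀ i n y y', s i (g i ^ n) y = s i (g i ^ n) y' → y = y')
    (hsurj : ∀ i y, ∃ (n : ℕ) (m : M), f i m = s i (g i ^ n) y)
    (hρs : ∀ i j r y, ρ i j (s i r y) = s₂ i j r (ρ i j y))
    (hρ's : ∀ i j r y, ρ' i j (s j r y) = s₂ i j r (ρ' i j y))
    (hcomm : ∀ i j m, ρ i j (f i m) = ρ' i j (f j m))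
    (hker : ∀ i j m, ρ i j (f i m) = 0 → ∃ n : ℕ, (g i * g j) ^ n • m = 0)
    (y : ∀ i, N i) (hy : ∀ i j, ρ i j (y i) = ρ' i j (y j)) :
    ∃ x : M, ∀ i, f i x = y i := by
  choose n m hm using fun i => hsurj i (y i)
  let p : ℕ := Finset.univ.sup n
  have hp : ∀ i, f i (g i ^ (p - n i) • m i) = s i (g i ^ p) (y i) := fun i => by
    rw [hs, hm, ← hss, ← pow_add, Nat.sub_add_cancel (Finset.le_sup (Finset.mem_univ i))]
  let m₁ : ι → M := fun i => g i ^ (p - n i) • m i
  have hd : ∀ i j, ∃ k : ℕ, (g i * g j) ^ k • (g j ^ p • m₁ i - g i ^ p • m₁ j) = 0 := fun i j => by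
    refine hker i j _ ?_
    rw [map_sub, map_sub, sub_eq_zero, hs, hp, ← hss, hρs, hcomm i j (g i ^ p • m₁ j), hs, hp, ← hss,
      hρ's, ← hy, mul_comm]
  choose k hk using hd
  let q : ℕ := Finset.univ.sup fun ij : ι × ι => k ij.1 ij.2
  let m₂ : ι → M := fun i => g i ^ q • m₁ i
  have h2 : ∀ i, f i (m₂ i) = s i (g i ^ (q + p)) (y i) := fun i => by
    rw [hs, hp, ← hss, ← pow_add]
  have h3 : ∀ i j, g j ^ (q + p) • m₂ i = g i ^ (q + p) • m₂ j := fun i j => by
    obtain ⟨d, hd⟩ := Nat.exists_eq_add_of_le
      (Finset.le_sup (f := fun ij : ι × ι => k ij.1 ij.2) (Finset.mem_univ (i, j)))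
    have : (g i * g j) ^ q • (g j ^ p • m₁ i - g i ^ p • m₁ j) = 0 := by
      rw [show q = d + k i j from hd.trans (add_comm _ _), pow_add, mul_smul, hk, smul_zero]
    rw [smul_sub, sub_eq_zero] at this
    calc g j ^ (q + p) • m₂ i = (g i * g j) ^ q • g j ^ p • m₁ i := by
          simp only [m₂]
          clear_value m₁
          rw [smul_smul, smul_smul]
          congr 1
          ring
      _ = (g i * g j) ^ q • g i ^ p • m₁ j := this
      _ = g i ^ (q + p) • m₂ j := by
          simp only [m₂]
          clear_value m₁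
          rw [smul_smul, smul_smul]
          congr 1
          ring
  obtain ⟨a, ha⟩ := Ideal.mem_span_range_iff_exists_fun.mp
    ((Ideal.eq_top_iff_one _).1 (span_pow g hg (q + p)))
  refine ⟨∑ i, a i • m₂ i, fun j => hinj j (q + p) _ _ ?_⟩
  rw [← hs, ← h2, Finset.smul_sum]
  congr 1
  calc ∑ i, g j ^ (q + p) • a i • m₂ i = ∑ i, (a i * g i ^ (q + p)) • m₂ j :=
        Finset.sum_congr rfl fun i _ => by rw [smul_comm, h3, smul_smul]
    _ = m₂ j := by rw [← Finset.sum_smul, ha, one_smul]

end Glue

end Groth.Agent.H8Props.NLH1
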