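import Groth.Prelude.Def_SheafNL
import Groth.Agent.H8Props.NLH1.Ring
import Mathlib.AlgebraicGeometry.Morphisms.Etale

/-!
# `H^{-1}` of the naive cotangent complex on affine chart pairs: restriction and gluing
-/

set_option autoImplicit false
set_option linter.style.haveILetI false

universe u

open CategoryTheory AlgebraicGeometry Opposite TopologicalSpace

namespace Groth.Agent.H8Props.NLH1

variable {X Y : Scheme.{u}} (f : X ⟶ Y)

/-- An affine chart pair. -/
structure Pair where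
  /-- the affine open of the source -/
  U : X.Opens
  hU : IsAffineOpen U
  /-- the affine open of the target -/
  V : Y.Opens
  hV : IsAffineOpen V
  e : U ≤ f ⁻¹ᵁ V

variable {f}

/-- Nested pairs. -/
structure Pair.Le (q p : Pair f) : Prop where
  left : q.U ≤ p.U
  right : q.V ≤ p.V

theorem Pair.Le.refl (p : Pair f) : p.Le p := ⟨le_rfl, le_rfl⟩

theorem Pair.Le.trans {r q p : Pair f} (h : r.Le q) (h' : q.Le p) : r.Le p :=
  ⟨h.left.trans h'.left, h.right.trans h'.right⟩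

/-- `H^{-1}` on a pair. -/
abbrev Pair.H (p : Pair f) : Type u := _root_.NLCx.ChartH1 f ⟨p.U, p.hU⟩ ⟨p.V, p.hV⟩ p.e

/-- The module structure of `H^{-1}` on a pair. -/
noncomputable instance Pair.module (p : Pair f) : Module Γ(X, p.U) p.H :=
  letI := (f.appLE p.V p.U p.e).hom.toAlgebra
  inferInstanceAs (Module Γ(X, p.U) (Algebra.H1Cotangent Γ(Y, p.V) Γ(X, p.U)))

/-- Restriction. -/
noncomputable def res {p q : Pair f} (h : q.Le p) : p.H →+ q.H :=
  _root_.NLCx.chartRes (U := ⟨p.U, p.hU⟩) (U' := ⟨q.U, q.hU⟩) (V := ⟨p.V, p.hV⟩) (V' := ⟨q.V, q.hV⟩)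
    p.e q.e h.left h.right

theorem res_smul {p q : Pair f} (h : q.Le p) (a : Γ(X, p.U)) (m : p.H) :
    res h (a • m) = (X.presheaf.map (homOfLE h.left).op).hom a • res h m := by
  letI := (f.appLE p.V p.U p.e).hom.toAlgebra
  letI := (f.appLE q.V q.U q.e).hom.toAlgebra
  letI := (f.appLE p.V q.U (h.left.trans p.e)).hom.toAlgebra
  letI := (X.presheaf.map (homOfLE h.left).op).hom.toAlgebra
  letI := (Y.presheaf.map (homOfLE h.right).op).hom.toAlgebra
  haveI : IsScalarTower Γ(Y, p.V) Γ(Y, q.V) Γ(X, q.U) :=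
    IsScalarTower.of_algebraMap_eq' (by
      change (f.appLE _ _ _).hom = (f.appLE _ _ _).hom.comp (Y.presheaf.map _).hom
      rw [← CommRingCat.hom_comp, Scheme.Hom.map_appLE])
  haveI : IsScalarTower Γ(Y, p.V) Γ(X, p.U) Γ(X, q.U) :=
    IsScalarTower.of_algebraMap_eq' (by
      change (f.appLE _ _ _).hom = (X.presheaf.map _).hom.comp (f.appLE _ _ _).hom
      rw [← CommRingCat.hom_comp, Scheme.Hom.appLE_map])
  exact (map_smul (Algebra.H1Cotangent.map Γ(Y, p.V) Γ(Y, q.V) Γ(X, p.U) Γ(X, q.U)) a m).trans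
    (IsScalarTower.algebraMap_smul Γ(X, q.U) a _).symm

theorem h1map_trans {R R' R'' S S' S'' : Type u} [CommRing R] [CommRing R'] [CommRing R''] [CommRing S]
    [CommRing S'] [CommRing S''] [Algebra R S] [Algebra R' S'] [Algebra R'' S'']
    [Algebra R R'] [Algebra R' R''] [Algebra R R''] [IsScalarTower R R' R'']
    [Algebra S S'] [Algebra S' S''] [Algebra S S''] [IsScalarTower S S' S'']
    [Algebra R S'] [Algebra R' S''] [Algebra R S''] [IsScalarTower R R' S'] [IsScalarTower R S S']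
    [IsScalarTower R' R'' S''] [IsScalarTower R' S' S''] [IsScalarTower R R'' S''] [IsScalarTower R S S'']
    (x : Algebra.H1Cotangent R S) :
    Algebra.H1Cotangent.map R' R'' S' S'' (Algebra.H1Cotangent.map R R' S S' x) =
      Algebra.H1Cotangent.map R R'' S S'' x := by
  show Algebra.Extension.H1Cotangent.map _ (Algebra.Extension.H1Cotangent.map _ x) =
    Algebra.Extension.H1Cotangent.map _ x
  rw [← Algebra.Extension.H1Cotangent.map_comp_apply, Algebra.Extension.H1Cotangent.map_eq]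

theorem res_res {p q r : Pair f} (h : q.Le p) (h' : r.Le q) (m : p.H) :
    res h' (res h m) = res (h'.trans h) m := by
  letI := (f.appLE p.V p.U p.e).hom.toAlgebra
  letI := (f.appLE q.V q.U q.e).hom.toAlgebra
  letI := (f.appLE r.V r.U r.e).hom.toAlgebra
  letI := (f.appLE p.V q.U (h.left.trans p.e)).hom.toAlgebra
  letI := (f.appLE q.V r.U (h'.left.trans q.e)).hom.toAlgebra
  letI := (f.appLE p.V r.U ((h'.trans h).left.trans p.e)).hom.toAlgebra
  letI := (X.presheaf.map (homOfLE h.left).op).hom.toAlgebra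
  letI := (X.presheaf.map (homOfLE h'.left).op).hom.toAlgebra
  letI := (X.presheaf.map (homOfLE (h'.trans h).left).op).hom.toAlgebra
  letI := (Y.presheaf.map (homOfLE h.right).op).hom.toAlgebra
  letI := (Y.presheaf.map (homOfLE h'.right).op).hom.toAlgebra
  letI := (Y.presheaf.map (homOfLE (h'.trans h).right).op).hom.toAlgebra
  haveI : IsScalarTower Γ(Y, p.V) Γ(Y, q.V) Γ(Y, r.V) :=
    IsScalarTower.of_algebraMap_eq' (by
      change (Y.presheaf.map _).hom = (Y.presheaf.map _).hom.comp (Y.presheaf.map _).hom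
      rw [← CommRingCat.hom_comp, ← Functor.map_comp]; rfl)
  haveI : IsScalarTower Γ(X, p.U) Γ(X, q.U) Γ(X, r.U) :=
    IsScalarTower.of_algebraMap_eq' (by
      change (X.presheaf.map _).hom = (X.presheaf.map _).hom.comp (X.presheaf.map _).hom
      rw [← CommRingCat.hom_comp, ← Functor.map_comp]; rfl)
  haveI : IsScalarTower Γ(Y, p.V) Γ(Y, q.V) Γ(X, q.U) :=
    IsScalarTower.of_algebraMap_eq' (by
      change (f.appLE _ _ _).hom = (f.appLE _ _ _).hom.comp (Y.presheaf.map _).hom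
      rw [← CommRingCat.hom_comp, Scheme.Hom.map_appLE])
  haveI : IsScalarTower Γ(Y, p.V) Γ(X, p.U) Γ(X, q.U) :=
    IsScalarTower.of_algebraMap_eq' (by
      change (f.appLE _ _ _).hom = (X.presheaf.map _).hom.comp (f.appLE _ _ _).hom
      rw [← CommRingCat.hom_comp, Scheme.Hom.appLE_map])
  haveI : IsScalarTower Γ(Y, q.V) Γ(Y, r.V) Γ(X, r.U) :=
    IsScalarTower.of_algebraMap_eq' (by
      change (f.appLE _ _ _).hom = (f.appLE _ _ _).hom.comp (Y.presheaf.map _).hom
      rw [← CommRingCat.hom_comp, Scheme.Hom.map_appLE])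
  haveI : IsScalarTower Γ(Y, q.V) Γ(X, q.U) Γ(X, r.U) :=
    IsScalarTower.of_algebraMap_eq' (by
      change (f.appLE _ _ _).hom = (X.presheaf.map _).hom.comp (f.appLE _ _ _).hom
      rw [← CommRingCat.hom_comp, Scheme.Hom.appLE_map])
  haveI : IsScalarTower Γ(Y, p.V) Γ(Y, r.V) Γ(X, r.U) :=
    IsScalarTower.of_algebraMap_eq' (by
      change (f.appLE _ _ _).hom = (f.appLE _ _ _).hom.comp (Y.presheaf.map _).hom
      rw [← CommRingCat.hom_comp, Scheme.Hom.map_appLE])
  haveI : IsScalarTower Γ(Y, p.V) Γ(X, p.U) Γ(X, r.U) :=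
    IsScalarTower.of_algebraMap_eq' (by
      change (f.appLE _ _ _).hom = (X.presheaf.map _).hom.comp (f.appLE _ _ _).hom
      rw [← CommRingCat.hom_comp, Scheme.Hom.appLE_map])
  exact h1map_trans (R := Γ(Y, p.V)) (R' := Γ(Y, q.V)) (R'' := Γ(Y, r.V)) (S := Γ(X, p.U))
    (S' := Γ(X, q.U)) (S'' := Γ(X, r.U)) m

theorem formallyEtale_res {V V' : Y.Opens} (hV : IsAffineOpen V) (hV' : IsAffineOpen V') (h : V' ≤ V) :
    @Algebra.FormallyEtale Γ(Y, V) Γ(Y, V') _ _ (Y.presheaf.map (homOfLE h).op).hom.toAlgebra := by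
  have h1 : RingHom.Etale ((𝟙 Y : Y ⟶ Y).appLE V V' h).hom :=
    HasRingHomProperty.appLE @Etale (𝟙 Y) inferInstance ⟨V, hV⟩ ⟨V', hV'⟩ h
  have h2 : (𝟙 Y : Y ⟶ Y).appLE V V' h = Y.presheaf.map (homOfLE h).op := by
    rw [Scheme.Hom.appLE, Scheme.Hom.id_app]
    exact Category.id_comp _
  rw [h2] at h1
  letI := (Y.presheaf.map (homOfLE h).op).hom.toAlgebra
  haveI : Algebra.Etale Γ(Y, V) Γ(Y, V') := h1
  infer_instance

/-- Restriction to a basic open (and a smaller chart of the base) is a localization. -/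
theorem exists_pow_smul_eq_res {p q : Pair f} (h : q.Le p) (g : Γ(X, p.U)) (hg : q.U = X.basicOpen g)
    (y : q.H) :
    ∃ (n : ℕ) (x : p.H), res h x = (X.presheaf.map (homOfLE h.left).op).hom (g ^ n) • y := by
  letI := (f.appLE p.V p.U p.e).hom.toAlgebra
  letI := (f.appLE q.V q.U q.e).hom.toAlgebra
  letI := (f.appLE p.V q.U (h.left.trans p.e)).hom.toAlgebra
  letI := (X.presheaf.map (homOfLE h.left).op).hom.toAlgebra
  letI := (Y.presheaf.map (homOfLE h.right).op).hom.toAlgebra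
  haveI : IsScalarTower Γ(Y, p.V) Γ(Y, q.V) Γ(X, q.U) :=
    IsScalarTower.of_algebraMap_eq' (by
      change (f.appLE _ _ _).hom = (f.appLE _ _ _).hom.comp (Y.presheaf.map _).hom
      rw [← CommRingCat.hom_comp, Scheme.Hom.map_appLE])
  haveI : IsScalarTower Γ(Y, p.V) Γ(X, p.U) Γ(X, q.U) :=
    IsScalarTower.of_algebraMap_eq' (by
      change (f.appLE _ _ _).hom = (X.presheaf.map _).hom.comp (f.appLE _ _ _).hom
      rw [← CommRingCat.hom_comp, Scheme.Hom.appLE_map])
  haveI : Algebra.FormallyEtale Γ(Y, p.V) Γ(Y, q.V) := formallyEtale_res p.hV q.hV h.right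
  haveI : IsLocalization.Away g Γ(X, q.U) := p.hU.isLocalization_of_eq_basicOpen g (homOfLE h.left) hg
  exact Groth.Agent.H8Props.NLH1.exists_pow_smul_eq_map (R := Γ(Y, p.V)) (R' := Γ(Y, q.V))
    (S := Γ(X, p.U)) (T := Γ(X, q.U)) g y

theorem exists_pow_smul_eq_zero_of_res {p q : Pair f} (h : q.Le p) (g : Γ(X, p.U))
    (hg : q.U = X.basicOpen g) (x : p.H) (hx : res h x = 0) : ∃ n : ℕ, g ^ n • x = 0 := by
  letI := (f.appLE p.V p.U p.e).hom.toAlgebra
  letI := (f.appLE q.V q.U q.e).hom.toAlgebra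
  letI := (f.appLE p.V q.U (h.left.trans p.e)).hom.toAlgebra
  letI := (X.presheaf.map (homOfLE h.left).op).hom.toAlgebra
  letI := (Y.presheaf.map (homOfLE h.right).op).hom.toAlgebra
  haveI : IsScalarTower Γ(Y, p.V) Γ(Y, q.V) Γ(X, q.U) :=
    IsScalarTower.of_algebraMap_eq' (by
      change (f.appLE _ _ _).hom = (f.appLE _ _ _).hom.comp (Y.presheaf.map _).hom
      rw [← CommRingCat.hom_comp, Scheme.Hom.map_appLE])
  haveI : IsScalarTower Γ(Y, p.V) Γ(X, p.U) Γ(X, q.U) :=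
    IsScalarTower.of_algebraMap_eq' (by
      change (f.appLE _ _ _).hom = (X.presheaf.map _).hom.comp (f.appLE _ _ _).hom
      rw [← CommRingCat.hom_comp, Scheme.Hom.appLE_map])
  haveI : Algebra.FormallyEtale Γ(Y, p.V) Γ(Y, q.V) := formallyEtale_res p.hV q.hV h.right
  haveI : IsLocalization.Away g Γ(X, q.U) := p.hU.isLocalization_of_eq_basicOpen g (homOfLE h.left) hg
  exact Groth.Agent.H8Props.NLH1.exists_pow_smul_eq_zero (R := Γ(Y, p.V)) (R' := Γ(Y, q.V))
    (S := Γ(X, p.U)) (T := Γ(X, q.U)) g x hx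

theorem res_bijective {p q : Pair f} (h : q.Le p) (hU : q.U = p.U) : Function.Bijective (res h) := by
  have h1 : q.U = X.basicOpen (1 : Γ(X, p.U)) :=
    hU.trans (Scheme.basicOpen_of_isUnit X isUnit_one).symm
  refine ⟨(injective_iff_map_eq_zero _).2 fun x hx => ?_, fun y => ?_⟩
  · obtain ⟨n, hn⟩ := exists_pow_smul_eq_zero_of_res h 1 h1 x hx
    rwa [one_pow, one_smul] at hn
  · obtain ⟨n, x, hx⟩ := exists_pow_smul_eq_res h 1 h1 y
    exact ⟨x, by rw [hx, one_pow, map_one, one_smul]⟩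

theorem res_refl (p : Pair f) (m : p.H) : res (Pair.Le.refl p) m = m :=
  (res_bijective (Pair.Le.refl p) rfl).1 (res_res (Pair.Le.refl p) (Pair.Le.refl p) m)

/-- The pair of a basic open. -/
def Pair.basic (p : Pair f) (g : Γ(X, p.U)) : Pair f :=
  ⟨X.basicOpen g, p.hU.basicOpen g, p.V, p.hV, (X.basicOpen_le g).trans p.e⟩

theorem Pair.basic_le (p : Pair f) (g : Γ(X, p.U)) : (p.basic g).Le p := ⟨X.basicOpen_le g, le_rfl⟩

/-- Sections agreeing near every point are equal. -/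
theorem res_ext (p : Pair f) (a b : p.H)
    (h : ∀ x ∈ p.U, ∃ (q : Pair f) (hq : q.Le p), x ∈ q.U ∧ res hq a = res hq b) : a = b := by
  classical
  let G : Set Γ(X, p.U) := {g | res (p.basic_le g) a = res (p.basic_le g) b}
  have hG : p.U ≤ ⨆ g : G, X.basicOpen g.1 := fun x hx => by
    obtain ⟨q, hq, hxq, he⟩ := h x hx
    obtain ⟨g, hgq, hxg⟩ := p.hU.exists_basicOpen_le (V := q.U) ⟨x, hxq⟩ hx
    let r : Pair f := ⟨X.basicOpen g, p.hU.basicOpen g, q.V, q.hV, hgq.trans q.e⟩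
    have hr : r.Le (p.basic g) := ⟨le_rfl, hq.right⟩
    have hrq : r.Le q := ⟨hgq, le_rfl⟩
    refine Opens.mem_iSup.2 ⟨⟨g, (res_bijective hr rfl).1 ?_⟩, hxg⟩
    rw [res_res, res_res, ← res_res hq hrq, ← res_res hq hrq, he]
  obtain ⟨s, hs, hspan⟩ :=
    (Ideal.span_eq_top_iff_finite _).1 (p.hU.self_le_iSup_basicOpen_iff.1 hG)
  rw [← sub_eq_zero]
  refine eq_zero_of_span (fun i : s => i.1) (by simpa using hspan) _ fun i => ?_
  refine exists_pow_smul_eq_zero_of_res (p.basic_le i.1) i.1 rfl _ ?_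
  rw [map_sub, sub_eq_zero]
  exact hs i.2

/-- A coherent family on a downward closed set of pairs covering `p` glues uniquely on `p`. -/
theorem existsUnique_glue (p : Pair f) (good : Pair f → Prop)
    (hdown : ∀ q r : Pair f, r.Le q → good q → good r) (y : ∀ q : Pair f, good q → q.H)
    (hy : ∀ (q r : Pair f) (h : r.Le q) (hq : good q) (hr : good r), res h (y q hq) = y r hr)
    (hcov : ∀ x ∈ p.U, ∃ q : Pair f, q.Le p ∧ good q ∧ x ∈ q.U) :
    ∃! a : p.H, ∀ (q : Pair f) (hq : q.Le p) (hg : good q), res hq a = y q hg := by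
  classical
  let G : Set Γ(X, p.U) := {g | ∃ q : Pair f, q.U = X.basicOpen g ∧ q.Le p ∧ good q}
  have hG : p.U ≤ ⨆ g : G, X.basicOpen g.1 := fun x hx => by
    obtain ⟨q, hq, hgq, hxq⟩ := hcov x hx
    obtain ⟨g, hgU, hxg⟩ := p.hU.exists_basicOpen_le (V := q.U) ⟨x, hxq⟩ hx
    let r : Pair f := ⟨X.basicOpen g, p.hU.basicOpen g, q.V, q.hV, hgU.trans q.e⟩
    exact Opens.mem_iSup.2
      ⟨⟨g, r, rfl, ⟨hgU.trans hq.left, hq.right⟩, hdown q r ⟨hgU, le_rfl⟩ hgq⟩, hxg⟩
  obtain ⟨s, hs, hspan⟩ :=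
    (Ideal.span_eq_top_iff_finite _).1 (p.hU.self_le_iSup_basicOpen_iff.1 hG)
  have hspan' : Ideal.span (Set.range fun i : s => i.1) = ⊤ := by simpa using hspan
  choose r hrU hrp hrg using fun i : s => hs i.2
  let q : s → Pair f := fun i => p.basic i.1
  have hrq : ∀ i, (r i).Le (q i) := fun i => ⟨(hrU i).le, (hrp i).right⟩
  choose z hz using fun i => (res_bijective (hrq i) (hrU i)).2 (y (r i) (hrg i))
  have hmulU : ∀ i j : s, X.basicOpen (i.1 * j.1) = X.basicOpen i.1 ⊓ X.basicOpen j.1 := fun i j =>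
    Scheme.basicOpen_mul X i.1 j.1
  let q₂ : s → s → Pair f := fun i j => p.basic (i.1 * j.1)
  have hl : ∀ i j, (q₂ i j).Le (q i) := fun i j => ⟨(hmulU i j).le.trans inf_le_left, le_rfl⟩
  have hr : ∀ i j, (q₂ i j).Le (q j) := fun i j => ⟨(hmulU i j).le.trans inf_le_right, le_rfl⟩
  have common : ∀ (w : Pair f) (i : s) (x : X), x ∈ w.U → x ∈ X.basicOpen i.1 →
      ∃ t : Pair f, t.Le w ∧ t.Le (r i) ∧ x ∈ t.U := by
    intro w i x hxw hxi
    have hxr : x ∈ (r i).U := (hrU i).ge hxi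
    obtain ⟨g, g', hgg, hxg⟩ := exists_basicOpen_le_affine_inter w.hV (r i).hV (f.base x)
      ⟨w.e hxw, (r i).e hxr⟩
    obtain ⟨T, hT, hxT, hTle⟩ := exists_isAffineOpen_mem_and_subset
      (show x ∈ w.U ⊓ (r i).U ⊓ f ⁻¹ᵁ Y.basicOpen g from ⟨⟨hxw, hxr⟩, hxg⟩)
    exact ⟨⟨T, hT, Y.basicOpen g, w.hV.basicOpen g, fun z hz => (hTle hz).2⟩,
      ⟨fun z hz => (hTle hz).1.1, Y.basicOpen_le g⟩,
      ⟨fun z hz => (hTle hz).1.2, hgg.le.trans (Y.basicOpen_le g')⟩, hxT⟩
  have hzy : ∀ (i : s) (t : Pair f) (ht : t.Le (r i)) (hg : good t),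
      res (ht.trans (hrq i)) (z i) = y t hg := fun i t ht hg => by
    rw [← res_res (hrq i) ht, hz, hy]
  have hzz : ∀ i j, res (hl i j) (z i) = res (hr i j) (z j) := fun i j => by
    refine res_ext _ _ _ fun x hx => ?_
    obtain ⟨t, ht, hti, hxt⟩ := common (q₂ i j) i x hx ((hl i j).left hx)
    obtain ⟨t', ht', htj, hxt'⟩ := common t j x hxt ((hr i j).left hx)
    have hg' : good t' := hdown (r j) t' htj (hrg j)
    refine ⟨t', ht'.trans ht, hxt', ?_⟩
    rw [res_res, res_res]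
    exact (hzy i t' (ht'.trans hti) hg').trans (hzy j t' htj hg').symm
  obtain ⟨a, ha⟩ := exists_glue (M := p.H) (fun i : s => i.1) hspan'
    (N := fun i => (q i).H) (fun i => res (p.basic_le i.1))
    (fun i c m => (X.presheaf.map (homOfLE (p.basic_le i.1).left).op).hom c • m)
    (N₂ := fun i j => (q₂ i j).H) (fun i j => res (hl i j)) (fun i j => res (hr i j))
    (fun i j c m => (X.presheaf.map (homOfLE (p.basic_le (i.1 * j.1)).left).op).hom c • m)
    (fun i => res_smul _) (fun i c c' m => by rw [map_mul, mul_smul])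
    (fun i n m m' h => by
      have hu : IsUnit ((X.presheaf.map (homOfLE (p.basic_le i.1).left).op).hom (i.1 ^ n)) := by
        rw [map_pow]
        exact (RingedSpace.isUnit_res_basicOpen _ i.1).pow n
      exact hu.smul_left_cancel.1 h)
    (fun i y => exists_pow_smul_eq_res (p.basic_le i.1) i.1 rfl y)
    (fun i j c m => by
      rw [res_smul, ← ConcreteCategory.comp_apply, ← Functor.map_comp]; rfl)
    (fun i j c m => by
      rw [res_smul, ← ConcreteCategory.comp_apply, ← Functor.map_comp]; rfl)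
    (fun i j m => by rw [res_res, res_res])
    (fun i j m hm => by
      rw [res_res] at hm
      exact exists_pow_smul_eq_zero_of_res (p.basic_le (i.1 * j.1)) _ rfl m hm)
    z hzz
  have hcov' : ∀ x ∈ p.U, ∃ i : s, x ∈ X.basicOpen i.1 := fun x hx => by
    have := (p.hU.self_le_iSup_basicOpen_iff (s := (s : Set Γ(X, p.U)))).2 hspan hx
    obtain ⟨⟨g, hg⟩, hxg⟩ := Opens.mem_iSup.1 this
    exact ⟨⟨g, hg⟩, hxg⟩
  refine ⟨a, fun w hw hg => res_ext _ _ _ fun x hx => ?_, fun b hb => ?_⟩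
  · obtain ⟨i, hxi⟩ := hcov' x (hw.left hx)
    obtain ⟨t, ht, hti, hxt⟩ := common w i x hx hxi
    refine ⟨t, ht, hxt, ?_⟩
    rw [hy w t ht hg (hdown w t ht hg), res_res, ← res_res (p.basic_le i.1) (hti.trans (hrq i)), ha]
    exact hzy i t hti _
  · refine res_ext _ _ _ fun x hx => ?_
    obtain ⟨i, hxi⟩ := hcov' x hx
    refine ⟨r i, hrp i, (hrU i).ge hxi, ?_⟩
    rw [hb _ _ (hrg i), ← res_res (p.basic_le i.1) (hrq i), ha, hz]

end Groth.Agent.H8Props.NLH1
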