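import Groth.Agent.H8Props.NLH1.Sheaf
import Groth.Agent.H17.PullSectLocal
import Groth.Agent.H17.PrinOmega
import Groth.Agent.H17.KerStalk
import Groth.Agent.H29Omega.ConormalStalk
import Groth.Agent.H11Tilde.ProjUP
import Groth.Prelude.Def_Omega4
import Mathlib.RingTheory.Smooth.Basic

/-!
# For a quasi-compact immersion the conormal sheaf is the sheaf `H^{-1}(NL)`
-/

set_option autoImplicit false
set_option linter.style.haveILetI false
set_option backward.isDefEq.respectTransparency false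

universe u

open CategoryTheory AlgebraicGeometry Opposite TopologicalSpace Algebra

namespace Groth.Agent.H8Props.NLH1

section Theta

variable {A B : Type u} [CommRing A] [CommRing B] [Algebra A B]

/-- The class of an element killed in `B`. -/
noncomputable def theta : RingHom.ker (algebraMap A B) →+ H1Cotangent A B where
  toFun a := ⟨Extension.Cotangent.mk ⟨algebraMap A (Generators.self A B).toExtension.Ring a.1, by
      show algebraMap _ B (algebraMap A _ a.1) = 0
      rw [← IsScalarTower.algebraMap_apply]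
      exact a.2⟩, by
      rw [LinearMap.mem_ker, Extension.cotangentComplex_mk, Derivation.map_algebraMap,
        TensorProduct.tmul_zero]⟩
  map_zero' := Subtype.ext (by
    show Extension.Cotangent.mk _ = 0
    rw [← map_zero Extension.Cotangent.mk]
    exact congrArg _ (Subtype.ext (map_zero (algebraMap A (Generators.self A B).toExtension.Ring))))
  map_add' a b := Subtype.ext (by
    show Extension.Cotangent.mk _ = Extension.Cotangent.mk _ + Extension.Cotangent.mk _
    rw [← map_add]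
    exact congrArg _ (Subtype.ext (map_add (algebraMap A (Generators.self A B).toExtension.Ring) a.1 b.1)))

theorem theta_smul (r : A) (a : RingHom.ker (algebraMap A B)) :
    theta (r • a) = algebraMap A B r • theta a := by
  refine Subtype.ext ?_
  show Extension.Cotangent.mk _ = algebraMap A B r • Extension.Cotangent.mk _
  rw [IsScalarTower.algebraMap_apply A (Generators.self A B).toExtension.Ring B, algebraMap_smul,
    ← map_smul]
  exact congrArg _ (Subtype.ext (map_mul (algebraMap A (Generators.self A B).toExtension.Ring) r a.1))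

theorem theta_natural {A' B' : Type u} [CommRing A'] [CommRing B'] [Algebra A' B'] [Algebra A A']
    [Algebra B B'] [Algebra A B'] [IsScalarTower A A' B'] [IsScalarTower A B B']
    (a : RingHom.ker (algebraMap A B)) (a' : RingHom.ker (algebraMap A' B'))
    (h : a'.1 = algebraMap A A' a.1) :
    H1Cotangent.map A A' B B' (theta a) = theta a' := by
  refine Subtype.ext ?_
  show Extension.Cotangent.map _ (Extension.Cotangent.mk _) = Extension.Cotangent.mk _
  rw [Extension.Cotangent.map_mk]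
  refine congrArg _ (Subtype.ext ?_)
  show ((Generators.self A B).defaultHom (Generators.self A' B')).toExtensionHom.toRingHom
    (algebraMap A _ a.1) = algebraMap A' _ a'.1
  rw [h]
  exact Extension.Hom.toRingHom_algebraMap _ _

/-- For a surjection `θ` is surjective and kills exactly the square of the kernel. -/
theorem theta_bijective_mod_sq (hs : Function.Surjective (algebraMap A B)) :
    Function.Surjective (theta : RingHom.ker (algebraMap A B) →+ H1Cotangent A B) ∧
      ∀ a : RingHom.ker (algebraMap A B), theta a = 0 ↔ a.1 ∈ RingHom.ker (algebraMap A B) ^ 2 := by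
  let Q : Extension.{u} A B :=
    { Ring := A, σ := fun b => (hs b).choose, algebraMap_σ := fun b => (hs b).choose_spec }
  let P := (Generators.self A B).toExtension
  let g : Q.Hom P :=
    { toRingHom := algebraMap A P.Ring
      toRingHom_algebraMap := fun _ => rfl
      algebraMap_toRingHom := fun x => (IsScalarTower.algebraMap_apply A P.Ring B x).symm }
  let w : MvPolynomial B A →ₐ[A] A := MvPolynomial.aeval Q.σ
  have hw : ∀ x : P.Ring, algebraMap A B (w x) = algebraMap P.Ring B x := by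
    intro x
    have : (IsScalarTower.toAlgHom A A B).comp w =
        IsScalarTower.toAlgHom A (Generators.self A B).toExtension.Ring B := by
      refine MvPolynomial.algHom_ext fun b => ?_
      show algebraMap A B (MvPolynomial.aeval Q.σ (MvPolynomial.X b)) =
        MvPolynomial.aeval (Generators.self A B).val (MvPolynomial.X b)
      rw [MvPolynomial.aeval_X, MvPolynomial.aeval_X]
      exact Q.algebraMap_σ b
    exact AlgHom.congr_fun this x
  let f : P.Hom Q :=
    { toRingHom := w.toRingHom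
      toRingHom_algebraMap := fun x => w.commutes x
      algebraMap_toRingHom := hw }
  let e := Extension.H1Cotangent.equiv g f
  have hd : ∀ y : Q.Cotangent, y ∈ LinearMap.ker Q.cotangentComplex := by
    intro y
    obtain ⟨⟨a, ha⟩, rfl⟩ := Extension.Cotangent.mk_surjective y
    rw [LinearMap.mem_ker, Extension.cotangentComplex_mk,
      show KaehlerDifferential.D A Q.Ring a = 0 from Subsingleton.elim (α := Ω[A⁄A]) _ _,
      TensorProduct.tmul_zero]
  let c : RingHom.ker (algebraMap A B) → Q.H1Cotangent := fun a =>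
    ⟨Extension.Cotangent.mk ⟨a.1, a.2⟩, hd _⟩
  have hθ : ∀ a, theta a = e (c a) := fun a => Subtype.ext (Extension.Cotangent.map_mk g ⟨a.1, a.2⟩).symm
  refine ⟨fun y => ?_, fun a => ?_⟩
  · obtain ⟨⟨x, hx⟩, rfl⟩ := e.surjective y
    obtain ⟨⟨a, ha⟩, rfl⟩ := Extension.Cotangent.mk_surjective x
    exact ⟨⟨a, ha⟩, hθ _⟩
  · rw [hθ, LinearEquiv.map_eq_zero_iff]
    constructor
    · exact fun h => (Extension.Cotangent.mk_eq_zero_iff _).1 (congrArg Subtype.val h)
    · exact fun h => Subtype.ext ((Extension.Cotangent.mk_eq_zero_iff _).2 h)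

end Theta

variable {X Z : Scheme.{u}} (i : Z ⟶ X)

/-- Affine opens of the target on which `i` is a closed immersion. -/
structure Nice where
  V : X.Opens
  hV : IsAffineOpen V
  cl : IsClosedImmersion (i ∣_ V)

variable {i}

theorem Nice.surj (v : Nice i) : Function.Surjective (i.app v.V) := by
  haveI := v.cl
  exact (H17.app_surjective_of_restrict i v.hV).1

/-- The pair of a nice open. -/
def Nice.pair (v : Nice i) : Pair i :=
  ⟨i ⁻¹ᵁ v.V, by haveI := v.cl; exact (H17.app_surjective_of_restrict i v.hV).2, v.V, v.hV, le_rfl⟩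

theorem Nice.appLE_eq (v : Nice i) : i.appLE v.V (i ⁻¹ᵁ v.V) le_rfl = i.app v.V := by
  rw [Scheme.Hom.app_eq_appLE]

variable [IsImmersion i] [QuasiCompact i]

omit [IsImmersion i] in
theorem Nice.idealSect_mem (v : Nice i) (m : Γ(ClSub.idealMod i.ker, v.V)) :
    (i.appLE v.V (i ⁻¹ᵁ v.V) le_rfl).hom (OmegaSh.idealSect i.ker v.V m) = 0 := by
  rw [v.appLE_eq]
  have h := (H29Blow.mem_ideal_iff_exists_idealSect i.ker v.hV (OmegaSh.idealSect i.ker v.V m)).2 ⟨m, rfl⟩
  rw [Scheme.Hom.ker_apply i ⟨v.V, v.hV⟩] at h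
  exact h

/-- The class of a section of the ideal. -/
noncomputable def Nice.cls (v : Nice i) : Γ(ClSub.idealMod i.ker, v.V) →+ v.pair.H :=
  letI := (i.appLE v.V (i ⁻¹ᵁ v.V) le_rfl).hom.toAlgebra
  (theta (A := Γ(X, v.V)) (B := Γ(Z, i ⁻¹ᵁ v.V))).comp
    { toFun := fun m => ⟨OmegaSh.idealSect i.ker v.V m, v.idealSect_mem m⟩
      map_zero' := Subtype.ext (map_zero (OmegaSh.idealSect i.ker v.V))
      map_add' := fun a b => Subtype.ext (map_add (OmegaSh.idealSect i.ker v.V) a b) }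

omit [IsImmersion i] in
theorem Nice.cls_smul (v : Nice i) (r : Γ(X, v.V)) (m : Γ(ClSub.idealMod i.ker, v.V)) :
    v.cls (r • m) = (show Γ(Z, v.pair.U) from i.app v.V r) • v.cls m := by
  letI := (i.appLE v.V (i ⁻¹ᵁ v.V) le_rfl).hom.toAlgebra
  rw [← v.appLE_eq]
  refine Eq.trans (congrArg theta (Subtype.ext ?_)) (theta_smul r ⟨OmegaSh.idealSect i.ker v.V m, v.idealSect_mem m⟩)
  exact H29Blow.idealSect_smul i.ker v.V r m

omit [IsImmersion i] in
theorem Nice.cls_res (v v' : Nice i) (h : v'.V ≤ v.V) (m : Γ(ClSub.idealMod i.ker, v.V)) :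
    res (q := v'.pair) (p := v.pair) ⟨i.preimage_mono h, h⟩ (v.cls m) =
      v'.cls ((ClSub.idealMod i.ker).presheaf.map (homOfLE h).op m) := by
  letI := (i.appLE v.V (i ⁻¹ᵁ v.V) le_rfl).hom.toAlgebra
  letI := (i.appLE v'.V (i ⁻¹ᵁ v'.V) le_rfl).hom.toAlgebra
  letI := (i.appLE v.V (i ⁻¹ᵁ v'.V) (i.preimage_mono h)).hom.toAlgebra
  letI := (Z.presheaf.map (homOfLE (i.preimage_mono h)).op).hom.toAlgebra
  letI := (X.presheaf.map (homOfLE h).op).hom.toAlgebra
  haveI : IsScalarTower Γ(X, v.V) Γ(X, v'.V) Γ(Z, i ⁻¹ᵁ v'.V) :=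
    IsScalarTower.of_algebraMap_eq' (by
      change (i.appLE _ _ _).hom = (i.appLE _ _ _).hom.comp (X.presheaf.map _).hom
      rw [← CommRingCat.hom_comp, Scheme.Hom.map_appLE])
  haveI : IsScalarTower Γ(X, v.V) Γ(Z, i ⁻¹ᵁ v.V) Γ(Z, i ⁻¹ᵁ v'.V) :=
    IsScalarTower.of_algebraMap_eq' (by
      change (i.appLE _ _ _).hom = (Z.presheaf.map _).hom.comp (i.appLE _ _ _).hom
      rw [← CommRingCat.hom_comp, Scheme.Hom.appLE_map])
  exact theta_natural (A := Γ(X, v.V)) (B := Γ(Z, i ⁻¹ᵁ v.V)) (A' := Γ(X, v'.V)) (B' := Γ(Z, i ⁻¹ᵁ v'.V))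
    ⟨OmegaSh.idealSect i.ker v.V m, v.idealSect_mem m⟩
    ⟨OmegaSh.idealSect i.ker v'.V _, v'.idealSect_mem _⟩ (H29Blow.idealSect_res i.ker h m)

omit [IsImmersion i] [QuasiCompact i] in
theorem Nice.pullSect_surjective (v : Nice i) :
    H17.PullSect.IsQuotOn i (ClSub.idealMod i.ker) v.V := by
  haveI := v.cl
  exact H17.PullSect.isQuotOn_of_isAffineOpen i (ClSub.idealMod i.ker)
    (H17.OmegaLocal.isQuasicoherent_idealMod i.ker) v.hV

omit [IsImmersion i] in
theorem Nice.cls_eq_zero_iff (v : Nice i) (m : Γ(ClSub.idealMod i.ker, v.V)) :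
    v.cls m = 0 ↔ OmegaSh.pullSect i (ClSub.idealMod i.ker) v.V m = 0 := by
  letI := (i.appLE v.V (i ⁻¹ᵁ v.V) le_rfl).hom.toAlgebra
  have hK : RingHom.ker (i.app v.V).hom = i.ker.ideal ⟨v.V, v.hV⟩ :=
    (Scheme.Hom.ker_apply i ⟨v.V, v.hV⟩).symm
  have hA : RingHom.ker (algebraMap Γ(X, v.V) Γ(Z, i ⁻¹ᵁ v.V)) = RingHom.ker (i.app v.V).hom := by
    rw [RingHom.algebraMap_toAlgebra, v.appLE_eq]
  have hs : Function.Surjective (algebraMap Γ(X, v.V) Γ(Z, i ⁻¹ᵁ v.V)) := by
    rw [RingHom.algebraMap_toAlgebra, v.appLE_eq]; exact v.surj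
  have hiff : v.cls m = 0 ↔ OmegaSh.idealSect i.ker v.V m ∈
      RingHom.ker (algebraMap Γ(X, v.V) Γ(Z, i ⁻¹ᵁ v.V)) ^ 2 :=
    (theta_bijective_mod_sq hs).2 ⟨OmegaSh.idealSect i.ker v.V m, v.idealSect_mem m⟩
  rw [hiff, hA]
  constructor
  · intro hm
    have h0 : ∀ a ∈ RingHom.ker (i.app v.V).hom ^ 2, ∃ n,
        OmegaSh.idealSect i.ker v.V n = a ∧ OmegaSh.pullSect i (ClSub.idealMod i.ker) v.V n = 0 := by
      intro a ha
      rw [pow_two] at ha
      refine Submodule.smul_induction_on ha (fun r hr s hs' => ?_) ?_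
      · obtain ⟨n, hn⟩ := (H29Blow.mem_ideal_iff_exists_idealSect i.ker v.hV s).1 (hK.le hs')
        refine ⟨r • n, by rw [H29Blow.idealSect_smul, hn]; rfl, ?_⟩
        rw [OmegaSh.pullSect_smul, show i.app v.V r = 0 from hr]
        exact zero_smul _ _
      · rintro a b ⟨n, rfl, hn⟩ ⟨n', rfl, hn'⟩
        exact ⟨n + n', map_add _ _ _, by rw [map_add, hn, hn', add_zero]⟩
    obtain ⟨n, hn, hn0⟩ := h0 _ hm
    rwa [← H29Blow.idealSect_injective i.ker v.V hn]
  · intro hm
    rw [pow_two]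
    refine Submodule.smul_induction_on (v.pullSect_surjective.2 m hm) (fun r hr n _ => ?_)
      (fun a b ha hb => by rw [map_add]; exact add_mem ha hb)
    rw [H29Blow.idealSect_smul]
    exact Ideal.mul_mem_mul hr
      (hK.ge ((H29Blow.mem_ideal_iff_exists_idealSect i.ker v.hV _).2 ⟨n, rfl⟩))

omit [IsImmersion i] in
theorem Nice.cls_surjective (v : Nice i) : Function.Surjective v.cls := by
  letI := (i.appLE v.V (i ⁻¹ᵁ v.V) le_rfl).hom.toAlgebra
  have hs : Function.Surjective (algebraMap Γ(X, v.V) Γ(Z, i ⁻¹ᵁ v.V)) := by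
    rw [RingHom.algebraMap_toAlgebra, v.appLE_eq]; exact v.surj
  intro y
  obtain ⟨⟨a, ha⟩, hay⟩ := (theta_bijective_mod_sq hs).1 y
  have ha' : a ∈ i.ker.ideal ⟨v.V, v.hV⟩ := by
    rw [Scheme.Hom.ker_apply]
    show (i.app v.V).hom a = 0
    rw [← v.appLE_eq]
    exact ha
  obtain ⟨m, hm⟩ := (H29Blow.mem_ideal_iff_exists_idealSect i.ker v.hV a).1 ha'
  refine ⟨m, Eq.trans (congrArg theta (Subtype.ext hm)) hay⟩

omit [IsImmersion i] in
theorem Nice.exists_equiv (v : Nice i) :
    ∃ L : Γ(Omega.conormal i, i ⁻¹ᵁ v.V) ≃ₗ[Γ(Z, i ⁻¹ᵁ v.V)] Sec i (i ⁻¹ᵁ v.V),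
      ∀ m, (L (OmegaSh.pullSect i (ClSub.idealMod i.ker) v.V m)).1 ⟨v.pair, le_rfl⟩ = v.cls m := by
  choose pre hpre using v.pullSect_surjective.1
  have hwd : ∀ m m', OmegaSh.pullSect i (ClSub.idealMod i.ker) v.V m =
      OmegaSh.pullSect i (ClSub.idealMod i.ker) v.V m' → v.cls m = v.cls m' := fun m m' h => by
    rw [← sub_eq_zero, ← map_sub, v.cls_eq_zero_iff, map_sub, h, sub_self]
  let E := AddEquiv.ofBijective (evalHom i v.pair) (evalHom_bijective i v.pair)
  have hE : ∀ (c : Γ(Z, v.pair.U)) (x : Sec i v.pair.U), E (c • x) = c • E x := fun c x => by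
    show (Z.presheaf.map (homOfLE (le_refl v.pair.U)).op).hom c • x.1 ⟨v.pair, le_rfl⟩ =
      c • x.1 ⟨v.pair, le_rfl⟩
    rw [show (homOfLE (le_refl v.pair.U)).op = 𝟙 (op v.pair.U) from rfl, Z.presheaf.map_id]
    rfl
  let L₀ : Γ(Omega.conormal i, i ⁻¹ᵁ v.V) →ₗ[Γ(Z, i ⁻¹ᵁ v.V)] Sec i (i ⁻¹ᵁ v.V) :=
    { toFun := fun s => E.symm (v.cls (pre s))
      map_add' := fun a b => by
        rw [← map_add E.symm, ← map_add v.cls]
        refine congrArg E.symm (hwd _ _ ?_)
        rw [map_add, hpre, hpre, hpre]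
      map_smul' := fun c s => by
        obtain ⟨r, rfl⟩ := v.surj c
        refine E.injective ?_
        rw [RingHom.id_apply, hE, E.apply_symm_apply, E.apply_symm_apply,
          hwd (pre (i.app v.V r • s)) (r • pre s) (by rw [hpre, OmegaSh.pullSect_smul, hpre])]
        exact v.cls_smul r (pre s) }
  have hval : ∀ m, E (L₀ (OmegaSh.pullSect i (ClSub.idealMod i.ker) v.V m)) = v.cls m := fun m =>
    (E.apply_symm_apply _).trans (hwd _ _ (hpre _))
  refine ⟨LinearEquiv.ofBijective L₀ ⟨?_, ?_⟩, hval⟩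
  · rw [injective_iff_map_eq_zero]
    intro s hs
    obtain ⟨m, rfl⟩ := v.pullSect_surjective.1 s
    rw [← v.cls_eq_zero_iff, ← hval, hs, map_zero]
  · intro y
    obtain ⟨m, hm⟩ := v.cls_surjective (E y)
    exact ⟨_, E.injective ((hval m).trans hm)⟩

omit [QuasiCompact i] in
theorem exists_nice (x : Z) (O : X.Opens) (hO : i x ∈ O) :
    ∃ v : Nice i, i x ∈ v.V ∧ v.V ≤ O := by
  obtain ⟨U, hxU, hUO, hcl⟩ := H29Omega.exists_affine_isClosedImmersion i x O hO
  exact ⟨⟨U.1, U.2, hcl⟩, hxU, hUO⟩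

omit [QuasiCompact i] in
theorem exists_nice_basis (W : Z.Opens) (x : Z) (hx : x ∈ W) :
    ∃ v : Nice i, x ∈ i ⁻¹ᵁ v.V ∧ i ⁻¹ᵁ v.V ≤ W := by
  obtain ⟨O, hO, hpre⟩ := i.isEmbedding.isInducing.isOpen_iff.1 W.2
  have hiff : ∀ z : Z, z ∈ W ↔ i z ∈ O := fun z => (Set.ext_iff.1 hpre z).symm
  obtain ⟨v, hxv, hvO⟩ := exists_nice (i := i) x ⟨O, hO⟩ ((hiff x).1 hx)
  exact ⟨v, hxv, fun z hz => (hiff z).2 (hvO hz)⟩

variable (i) in
/-- The conormal sheaf is isomorphic to the sheaf `H^{-1}(NL)`. -/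
theorem nonempty_conormal_iso : Nonempty (Omega.conormal i ≅ h1Module i) := by
  let B : Z.Opens → Prop := fun U => ∃ v : Nice i, U = i ⁻¹ᵁ v.V
  have hB : ∀ (W : Z.Opens) (x : Z), x ∈ W → ∃ U, B U ∧ x ∈ U ∧ U ≤ W := fun W x hx => by
    obtain ⟨v, hxv, hvW⟩ := exists_nice_basis (i := i) W x hx
    exact ⟨_, ⟨v, rfl⟩, hxv, hvW⟩
  choose L hL using fun v : Nice i => v.exists_equiv
  -- compatibility on all nice opens
  have key : ∀ (v v' : Nice i) (h : i ⁻¹ᵁ v'.V ≤ i ⁻¹ᵁ v.V) (s : Γ(Omega.conormal i, i ⁻¹ᵁ v.V)),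
      L v' ((Omega.conormal i).presheaf.map (homOfLE h).op s) = secRes i h (L v s) := by
    intro v v' h s
    refine (evalHom_bijective i v'.pair).1 (res_ext _ _ _ fun x hx => ?_)
    obtain ⟨w, hxw, hwV⟩ := exists_nice (i := i) x (v'.V ⊓ v.V) ⟨hx, h hx⟩
    have hw' : w.V ≤ v'.V := hwV.trans inf_le_left
    have hw : w.V ≤ v.V := hwV.trans inf_le_right
    have hq : w.pair.Le v'.pair := ⟨i.preimage_mono hw', hw'⟩
    refine ⟨w.pair, hq, hxw, ?_⟩
    have nested : ∀ (v₀ : Nice i) (h₀ : w.V ≤ v₀.V) (t : Γ(Omega.conormal i, i ⁻¹ᵁ v₀.V)),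
        res (q := w.pair) (p := v₀.pair) ⟨i.preimage_mono h₀, h₀⟩ ((L v₀ t).1 ⟨v₀.pair, le_rfl⟩) =
          (L w ((Omega.conormal i).presheaf.map (homOfLE (i.preimage_mono h₀)).op t)).1
            ⟨w.pair, le_rfl⟩ := by
      intro v₀ h₀ t
      obtain ⟨m, rfl⟩ := v₀.pullSect_surjective.1 t
      rw [hL, Nice.cls_res v₀ w h₀ m, ← hL, H11Tilde.pullSect_res]
      rfl
    show res hq ((L v' _).1 ⟨v'.pair, le_rfl⟩) = res hq ((L v s).1 ⟨v'.pair, h⟩)
    rw [(L v s).2 ⟨v'.pair, h⟩ ⟨w.pair, (hq.left).trans h⟩ hq,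
      ← (L v s).2 ⟨v.pair, le_rfl⟩ ⟨w.pair, (hq.left).trans h⟩ ⟨i.preimage_mono hw, hw⟩,
      nested v' hw', nested v hw, OmegaSh.resM_resM]
    rfl
  choose nv hnv using fun (U : Z.Opens) (hU : B U) => hU
  have hex : ∀ (U : Z.Opens) (hU : B U), ∃ e : Γ(Omega.conormal i, U) ≃ₗ[Γ(Z, U)] Γ(h1Module i, U),
      ∀ (v : Nice i) (h : U ≤ i ⁻¹ᵁ v.V) (s : Γ(Omega.conormal i, i ⁻¹ᵁ v.V)),
        e ((Omega.conormal i).presheaf.map (homOfLE h).op s) = secRes i h (L v s) := by
    intro U hU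
    obtain ⟨v₀, rfl⟩ := hU
    exact ⟨L v₀, fun v h s => key v v₀ h s⟩
  choose e he using hex
  have hnat : ∀ (U U' : Z.Opens) (hU : B U) (hU' : B U') (h : U' ≤ U) (s : Γ(Omega.conormal i, U)),
      e U' hU' ((Omega.conormal i).presheaf.map (homOfLE h).op s) =
        (h1Module i).presheaf.map (homOfLE h).op (e U hU s) := by
    intro U U' hU hU' h s
    obtain ⟨v, rfl⟩ := hU
    rw [he U' hU' v h s]
    have h2 := he _ ⟨v, rfl⟩ v le_rfl s
    rw [show (homOfLE (le_refl (i ⁻¹ᵁ v.V))).op = 𝟙 _ from rfl, CategoryTheory.Functor.map_id] at h2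
    exact (congrArg (secRes i h) h2).symm
  have hnat' : ∀ (U U' : Z.Opens) (hU : B U) (hU' : B U') (h : U' ≤ U) (t : Γ(h1Module i, U)),
      (e U' hU').symm ((h1Module i).presheaf.map (homOfLE h).op t) =
        (Omega.conormal i).presheaf.map (homOfLE h).op ((e U hU).symm t) := by
    intro U U' hU hU' h t
    rw [LinearEquiv.symm_apply_eq, hnat U U' hU hU' h, LinearEquiv.apply_symm_apply]
  obtain ⟨α, hα⟩ := H17.PrinOmega.exists_hom_of_basis (Omega.conormal i) (h1Module i) B hB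
    (fun U hU => (e U hU).toLinearMap) hnat
  obtain ⟨β, hβ⟩ := H17.PrinOmega.exists_hom_of_basis (h1Module i) (Omega.conormal i) B hB
    (fun U hU => (e U hU).symm.toLinearMap) hnat'
  have ext' : ∀ {M : Z.Modules} (γ : M ⟶ M),
      (∀ (U : Z.Opens), B U → ∀ s : Γ(M, U), γ.app U s = s) → γ = 𝟙 M := by
    intro M γ hγ
    refine H17.PrinFactor.hom_ext_germ fun W s x hx => ?_
    obtain ⟨U, hU, hxU, hUW⟩ := hB W x hx
    have h1 : M.presheaf.map (homOfLE hUW).op (γ.app W s) = M.presheaf.map (homOfLE hUW).op s := by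
      rw [← H17.PrinOmega.app_res γ hUW s, hγ U hU]
    have h2 := congrArg (M.presheaf.germ U x hxU) h1
    rw [TopCat.Presheaf.germ_res_apply, TopCat.Presheaf.germ_res_apply] at h2
    exact h2
  refine ⟨⟨α, β, ext' _ fun U hU s => ?_, ext' _ fun U hU s => ?_⟩⟩
  · show β.app U (α.app U s) = s
    rw [hα U hU, hβ U hU]
    exact (e U hU).symm_apply_apply s
  · show α.app U (β.app U s) = s
    rw [hβ U hU, hα U hU]
    exact (e U hU).apply_symm_apply s

omit [IsImmersion i] [QuasiCompact i] in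
/-- Transport along an isomorphism of modules. -/
theorem nonempty_h1Sheaf_of_iso {F : Z.Modules} (e : F ≅ h1Module i) :
    Nonempty (_root_.NLCx.H1Sheaf i F) := by
  obtain ⟨c⟩ := nonempty_h1Sheaf i
  have hbij : ∀ U : Z.Opens, Function.Bijective (e.hom.app U) := fun U => by
    have : IsIso (e.hom.app U) := Scheme.Modules.Hom.isIso_iff_isIso_app.mp inferInstance U
    exact ConcreteCategory.bijective_of_isIso _
  exact ⟨{
    iso := fun U V h => (AddEquiv.ofBijective (e.hom.app U.1).hom (hbij U.1)).trans (c.iso U V h)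
    map_smul := fun U V h a m => by
      exact (congrArg (c.iso U V h) (Scheme.Modules.Hom.app_smul e.hom a m)).trans (c.map_smul U V h a _)
    map_res := fun {U U' V V'} h h' hU hV m => by
      exact (congrArg (c.iso U' V' h') (H17.PrinOmega.app_res e.hom hU m)).trans (c.map_res h h' hU hV _) }⟩

omit [QuasiCompact i] in
theorem onCharts_omega_subsingleton :
    _root_.NLCx.OnCharts i (fun A B _ _ _ => Subsingleton (Ω[B⁄A])) := by
  intro U V e
  haveI : FormallyUnramified i := inferInstance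
  have h : RingHom.FormallyUnramified (i.appLE V.1 U.1 e).hom :=
    HasRingHomProperty.appLE @FormallyUnramified i inferInstance V U e
  letI := (i.appLE V.1 U.1 e).hom.toAlgebra
  haveI : Algebra.FormallyUnramified Γ(X, V.1) Γ(Z, U.1) := h
  exact Algebra.FormallyUnramified.subsingleton_kaehlerDifferential

end Groth.Agent.H8Props.NLH1
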