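import Groth.Agent.H8Props.NLH1.Chart
import Groth.Agent.H11Tilde.QCohCrit
import Groth.Prelude.Def_Coh
import Mathlib.Topology.Sheaves.SheafCondition.UniqueGluing

/-!
# The sheaf `H^{-1}(NL_{X/Y})`

Sections over an open are the compatible families on the affine chart pairs inside it.
-/

set_option autoImplicit false
set_option linter.style.haveILetI false

universe u

open CategoryTheory AlgebraicGeometry Opposite TopologicalSpace

namespace Groth.Agent.H8Props.NLH1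

variable {X Y : Scheme.{u}} (f : X ⟶ Y)

/-- Pairs inside an open. -/
def PairIn (W : X.Opens) : Type u := {p : Pair f // p.U ≤ W}

/-- Compatible families. -/
def secSubgroup (W : X.Opens) : AddSubgroup (∀ p : PairIn f W, p.1.H) where
  carrier := {m | ∀ (p q : PairIn f W) (h : q.1.Le p.1), res h (m p) = m q}
  zero_mem' := fun p q h => map_zero (res h)
  add_mem' := fun {a b} ha hb p q h => by
    show res h (a p + b p) = a q + b q
    rw [map_add, ha p q h, hb p q h]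
  neg_mem' := fun {a} ha p q h => by
    show res h (-a p) = -a q
    rw [map_neg, ha p q h]

/-- The sections over an open. -/
abbrev Sec (W : X.Opens) : Type u := secSubgroup f W

variable {f}

noncomputable instance secSMul (W : X.Opens) : SMul Γ(X, W) (Sec f W) where
  smul a m := ⟨fun p => (X.presheaf.map (homOfLE p.2).op).hom a • m.1 p, fun p q h => by
    show res h (_ • _) = _ • _
    rw [res_smul, m.2 p q h, ← ConcreteCategory.comp_apply, ← Functor.map_comp]
    rfl⟩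

theorem sec_smul_apply {W : X.Opens} (a : Γ(X, W)) (m : Sec f W) (p : PairIn f W) :
    (a • m).1 p = (X.presheaf.map (homOfLE p.2).op).hom a • m.1 p := rfl

noncomputable instance secModule (W : X.Opens) : Module Γ(X, W) (Sec f W) where
  one_smul m := Subtype.ext (funext fun p => by rw [sec_smul_apply, map_one, one_smul])
  mul_smul a b m := Subtype.ext (funext fun p => by
    rw [sec_smul_apply, sec_smul_apply, sec_smul_apply, map_mul, mul_smul])
  smul_zero a := Subtype.ext (funext fun p => by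
    rw [sec_smul_apply]; exact smul_zero _)
  smul_add a m n := Subtype.ext (funext fun p => by
    rw [sec_smul_apply]; exact smul_add _ _ _)
  add_smul a b m := Subtype.ext (funext fun p => by
    rw [sec_smul_apply, map_add, add_smul]; rfl)
  zero_smul m := Subtype.ext (funext fun p => by
    rw [sec_smul_apply, map_zero, zero_smul]; rfl)

variable (f)

/-- Restriction of families. -/
noncomputable def secRes {W W' : X.Opens} (h : W' ≤ W) : Sec f W →+ Sec f W' where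
  toFun m := ⟨fun p => m.1 ⟨p.1, p.2.trans h⟩, fun p q hpq => m.2 ⟨p.1, p.2.trans h⟩ ⟨q.1, q.2.trans h⟩ hpq⟩
  map_zero' := rfl
  map_add' _ _ := rfl

/-- The presheaf of abelian groups. -/
noncomputable def abPresheaf : X.Opensᵒᵖ ⥤ AddCommGrpCat.{u} where
  obj W := AddCommGrpCat.of (Sec f W.unop)
  map i := AddCommGrpCat.ofHom (secRes f i.unop.le)
  map_id _ := rfl
  map_comp _ _ := rfl

noncomputable instance abPresheafModule (W : X.Opensᵒᵖ) :
    Module (X.ringCatSheaf.obj.obj W) ((abPresheaf f).obj W) :=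
  inferInstanceAs (Module Γ(X, W.unop) (Sec f W.unop))

theorem abPresheaf_map_smul ⦃W W' : X.Opensᵒᵖ⦄ (i : W ⟶ W') (r : X.ringCatSheaf.obj.obj W)
    (m : (abPresheaf f).obj W) :
    (abPresheaf f).map i (r • m) = X.ringCatSheaf.obj.map i r • (abPresheaf f).map i m := by
  refine Subtype.ext (funext fun p => ?_)
  show (X.presheaf.map _).hom r • _ =
    (X.presheaf.map (homOfLE p.2).op).hom ((X.presheaf.map i).hom r) • _
  rw [← ConcreteCategory.comp_apply, ← Functor.map_comp]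
  rfl

theorem abPresheaf_isSheaf : TopCat.Presheaf.IsSheaf (abPresheaf f) := by
  rw [TopCat.Presheaf.isSheaf_iff_isSheafUniqueGluing]
  intro ι U sf hsf
  let good : Pair f → Prop := fun q => ∃ j, q.U ≤ U j
  choose jj hjj using fun (q : Pair f) (hq : good q) => hq
  let y : ∀ q : Pair f, good q → q.H := fun q hq => (sf (jj q hq)).1 ⟨q, hjj q hq⟩
  have hindep : ∀ (q : Pair f) (i j : ι) (hi : q.U ≤ U i) (hj : q.U ≤ U j),
      (sf i).1 ⟨q, hi⟩ = (sf j).1 ⟨q, hj⟩ := fun q i j hi hj =>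
    congrFun (congrArg Subtype.val (hsf i j)) ⟨q, le_inf hi hj⟩
  have hy : ∀ (q r : Pair f) (h : r.Le q) (hq : good q) (hr : good r), res h (y q hq) = y r hr :=
    fun q r h hq hr => ((sf (jj q hq)).2 ⟨q, hjj q hq⟩ ⟨r, h.left.trans (hjj q hq)⟩ h).trans
      (hindep r _ _ _ _)
  have hgl : ∀ p : PairIn f (iSup U), ∃! a : p.1.H,
      ∀ (q : Pair f) (hq : q.Le p.1) (hg : good q), res hq a = y q hg := fun p =>
    existsUnique_glue p.1 good (fun q r h ⟨j, hj⟩ => ⟨j, h.left.trans hj⟩) y hy fun x hx => by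
      obtain ⟨j, hxj⟩ := Opens.mem_iSup.1 (p.2 hx)
      obtain ⟨T, hT, hxT, hTle⟩ := exists_isAffineOpen_mem_and_subset
        (show x ∈ p.1.U ⊓ U j from ⟨hx, hxj⟩)
      exact ⟨⟨T, hT, p.1.V, p.1.hV, fun z hz => p.1.e (hTle hz).1⟩,
        ⟨fun z hz => (hTle hz).1, le_rfl⟩, ⟨j, fun z hz => (hTle hz).2⟩, hxT⟩
  choose a ha hau using hgl
  refine ⟨⟨a, fun p q h => hau q _ fun r hr hg => ?_⟩, fun j => ?_, fun t ht => ?_⟩
  · rw [res_res]
    exact ha p r (hr.trans h) hg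
  · refine Subtype.ext (funext fun p => ?_)
    show a ⟨p.1, _⟩ = (sf j).1 p
    have h1 := ha ⟨p.1, p.2.trans (le_iSup U j)⟩ p.1 (Pair.Le.refl _) ⟨j, p.2⟩
    rw [res_refl] at h1
    exact h1.trans (hindep _ _ _ _ _)
  · refine Subtype.ext (funext fun p => hau p _ fun q hq hg => ?_)
    refine (t.2 p ⟨q, hq.left.trans p.2⟩ hq).trans ?_
    exact congrFun (congrArg Subtype.val (ht (jj q hg))) ⟨q, hjj q hg⟩

/-- The sheaf `H^{-1}(NL_{X/Y})`. -/
noncomputable def h1Module : X.Modules where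
  val := PresheafOfModules.ofPresheaf (R := X.ringCatSheaf.obj) (abPresheaf f) (abPresheaf_map_smul f)
  isSheaf := abPresheaf_isSheaf f

/-- Evaluation of a family on a pair with source the given open. -/
noncomputable def evalHom (p : Pair f) : Sec f p.U →+ p.H where
  toFun m := m.1 ⟨p, le_rfl⟩
  map_zero' := rfl
  map_add' _ _ := rfl

theorem evalHom_bijective (p : Pair f) : Function.Bijective (evalHom f p) := by
  let good : Pair f → Prop := fun q => q.Le p
  have hcov : ∀ w : PairIn f p.U, ∀ x ∈ w.1.U, ∃ q : Pair f, q.Le w.1 ∧ good q ∧ x ∈ q.U := by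
    intro w x hx
    obtain ⟨g, g', hgg, hxg⟩ := exists_basicOpen_le_affine_inter w.1.hV p.hV (f.base x)
      ⟨w.1.e hx, p.e (w.2 hx)⟩
    obtain ⟨T, hT, hxT, hTle⟩ := exists_isAffineOpen_mem_and_subset
      (show x ∈ w.1.U ⊓ f ⁻¹ᵁ Y.basicOpen g from ⟨hx, hxg⟩)
    exact ⟨⟨T, hT, Y.basicOpen g, w.1.hV.basicOpen g, fun z hz => (hTle hz).2⟩,
      ⟨fun z hz => (hTle hz).1, Y.basicOpen_le g⟩,
      ⟨fun z hz => w.2 (hTle hz).1, hgg.le.trans (Y.basicOpen_le g')⟩, hxT⟩
  constructor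
  · intro s t hst
    refine Subtype.ext (funext fun w => res_ext _ _ _ fun x hx => ?_)
    obtain ⟨q, hqw, hqp, hxq⟩ := hcov w x hx
    refine ⟨q, hqw, hxq, ?_⟩
    have h1 : ∀ r : Sec f p.U, res hqw (r.1 w) = res hqp (r.1 ⟨p, le_rfl⟩) := fun r =>
      (r.2 w ⟨q, hqp.left⟩ hqw).trans (r.2 ⟨p, le_rfl⟩ ⟨q, hqp.left⟩ hqp).symm
    rw [h1, h1]
    exact congrArg (res hqp) hst
  · intro x₀
    have hgl : ∀ w : PairIn f p.U, ∃! a : w.1.H,
        ∀ (q : Pair f) (hq : q.Le w.1) (hg : good q), res hq a = res hg x₀ := fun w =>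
      existsUnique_glue w.1 good (fun q r h hq => h.trans hq) (fun q hq => res hq x₀)
        (fun q r h hq hr => res_res hq h x₀) (hcov w)
    choose a ha hau using hgl
    refine ⟨⟨a, fun w w' h => hau w' _ fun r hr hg => ?_⟩, ?_⟩
    · rw [res_res]
      exact ha w r (hr.trans h) hg
    · exact (hau ⟨p, le_rfl⟩ x₀ fun q _ _ => rfl).symm

theorem nonempty_h1Sheaf : Nonempty (_root_.NLCx.H1Sheaf f (h1Module f)) :=
  ⟨{ iso := fun U V e => AddEquiv.ofBijective (evalHom f ⟨U.1, U.2, V.1, V.2, e⟩)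
        (evalHom_bijective f _)
     map_smul := fun U V e a m => by
       let p : Pair f := ⟨U.1, U.2, V.1, V.2, e⟩
       let m' : Sec f p.U := m
       show (X.presheaf.map (homOfLE (le_refl p.U)).op).hom a • m'.1 ⟨p, le_rfl⟩ =
         a • m'.1 ⟨p, le_rfl⟩
       rw [show (homOfLE (le_refl p.U)).op = 𝟙 (op p.U) from rfl, X.presheaf.map_id]
       rfl
     map_res := fun {U U' V V'} e e' hU hV m => by
       let p : Pair f := ⟨U.1, U.2, V.1, V.2, e⟩
       let q : Pair f := ⟨U'.1, U'.2, V'.1, V'.2, e'⟩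
       exact (m.2 ⟨p, le_rfl⟩ ⟨q, hU⟩ ⟨hU, hV⟩).symm }⟩

theorem isQCoh_of_h1Sheaf (F : X.Modules) (c : _root_.NLCx.H1Sheaf f F) : Coh.IsQCoh F := by
  let I := {p : Pair f // True}
  refine Groth.Agent.H11Tilde.isQuasicoherent_of_basicOpen_localization F
    (U := fun p : I => p.1.U) ?_ (fun p => p.1.hU) ?_ ?_
  · refine Opens.ext (Set.eq_univ_of_forall fun x => ?_)
    obtain ⟨V, hV, hxV, -⟩ := exists_isAffineOpen_mem_and_subset (show f.base x ∈ (⊤ : Y.Opens) from trivial)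
    obtain ⟨T, hT, hxT, hTle⟩ := exists_isAffineOpen_mem_and_subset (show x ∈ f ⁻¹ᵁ V from hxV)
    simp only [Opens.coe_iSup, Set.mem_iUnion]
    exact ⟨⟨⟨T, hT, V, hV, hTle⟩, trivial⟩, hxT⟩
  · intro i r s hs
    obtain ⟨p, hp⟩ := i
    have h0 : res (p.basic_le r) (c.iso ⟨p.U, p.hU⟩ ⟨p.V, p.hV⟩ p.e s) = 0 := by
      refine (c.map_res (U := ⟨p.U, p.hU⟩) (V := ⟨p.V, p.hV⟩)
        (U' := ⟨X.basicOpen r, p.hU.basicOpen r⟩) (V' := ⟨p.V, p.hV⟩) p.e
        (p.basic r).e (X.basicOpen_le r) le_rfl s).symm.trans ?_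
      rw [show F.val.map (homOfLE (X.basicOpen_le r)).op s = 0 from hs]
      exact map_zero _
    obtain ⟨n, hn⟩ := exists_pow_smul_eq_zero_of_res (p.basic_le r) r rfl _ h0
    refine ⟨n, (c.iso ⟨p.U, p.hU⟩ ⟨p.V, p.hV⟩ p.e).injective ?_⟩
    exact ((c.map_smul ⟨p.U, p.hU⟩ ⟨p.V, p.hV⟩ p.e (r ^ n) s).trans hn).trans (map_zero _).symm
  · intro i r s'
    obtain ⟨p, hp⟩ := i
    let q := p.basic r
    obtain ⟨n, x, hx⟩ := exists_pow_smul_eq_res (p.basic_le r) r rfl
      (c.iso ⟨q.U, q.hU⟩ ⟨q.V, q.hV⟩ q.e s')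
    refine ⟨n, (c.iso ⟨p.U, p.hU⟩ ⟨p.V, p.hV⟩ p.e).symm x,
      (c.iso ⟨q.U, q.hU⟩ ⟨q.V, q.hV⟩ q.e).injective ?_⟩
    refine (c.map_res (U := ⟨p.U, p.hU⟩) (V := ⟨p.V, p.hV⟩) (U' := ⟨q.U, q.hU⟩) (V' := ⟨q.V, q.hV⟩)
      p.e q.e (X.basicOpen_le r) le_rfl _).trans ?_
    rw [AddEquiv.apply_symm_apply]
    exact hx.trans (c.map_smul ⟨q.U, q.hU⟩ ⟨q.V, q.hV⟩ q.e _ s').symm

end Groth.Agent.H8Props.NLH1
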